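import Groth.Agent.MumfordLib.Induct
import Groth.Agent.PnCohLib.Hypersurface
import Groth.Agent.CohGenLib.Pro
import Groth.Agent.PicPnLib.BaseChange
import Groth.Agent.RpushLib.AffBaseBC
import Groth.Agent.KFlatLib.QCohPull
import Groth.Agent.KFlatLib.PerfectPull

/-!
# The uniform bound for the regularity of a subsheaf of a free module
-/

set_option autoImplicit false
set_option maxHeartbeats 1000000
universe u

open CategoryTheory CategoryTheory.Limits AlgebraicGeometry TopologicalSpace Opposite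
open scoped TensorProduct

noncomputable section

namespace MumfordLib

variable {n : ℕ} (k : Type u) [Field k]

local notation "P" => CohB1.ProjSpace n k
local notation "O'" => Twist.twistProjSpace n k

theorem nonempty_twist_trivial (hn : n = 0) (t : ℤ) :
    Nonempty (O' t ≅ Coh.structureModule (CohB1.ProjSpace n k)) := by
  obtain ⟨e₀⟩ := PicPnLib.twist_zero n k
  have h1 : Nonempty (O' 1 ≅ Coh.structureModule (CohB1.ProjSpace n k)) := by
    let σ : Γ(O' 1, (⊤ : (CohB1.ProjSpace n k).Opens)) := ProjUP.coord n k 0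
    have hg : AmpleLib.GenOn (O' 1) σ := by
      have htop : QCohLib.stdOpen n k 0 = ⊤ := by
        subst hn
        rw [← QCohLib.iSup_stdOpen]
        exact le_antisymm (le_iSup _ 0) (iSup_le fun a => (congrArg (QCohLib.stdOpen 0 k) (Fin.fin_one_eq_zero a)).le)
      intro V _
      have h : AmpleLib.GenOn (O' 1) (AmpleLib.res (O' 1) (le_top : QCohLib.stdOpen n k 0 ≤ ⊤) (ProjUP.coord n k 0)) :=
        TwistLib.globalOf_genOn (CohB1.polyGrading n k) (GradedCechLib.X_mem (n := n) (R := k) 0)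
      have hb := h V (htop ▸ le_top)
      simp only [AmpleLib.res_res] at hb
      exact hb
    haveI := AmpleLib.isIso_unitHom σ hg
    exact ⟨(asIso (QCohLib.unitHom _ σ)).symm⟩
  obtain ⟨e₁⟩ := h1
  induction t with
  | zero => exact ⟨e₀⟩
  | succ t ih =>
    obtain ⟨e⟩ := PicPnLib.twist_add n k (t : ℤ) 1
    obtain ⟨et⟩ := ih
    exact ⟨e.symm ≪≫ HilbPolyLib.congrRight _ e₁ ≪≫ PicPnLib.unitRight _ ≪≫ et⟩
  | pred t ih =>
    obtain ⟨e⟩ := PicPnLib.twist_add n k (-(t : ℤ) - 1) 1
    obtain ⟨et⟩ := ih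
    refine ⟨(PicPnLib.unitRight _).symm ≪≫ HilbPolyLib.congrRight _ e₁.symm ≪≫ e ≪≫ eqToIso ?_ ≪≫ et⟩
    congr 1
    ring

theorem euler_twist (t : ℤ) :
    Curv2.euler k (CohB1.ProjSpace n k) (O' t) = Ring.choose (t + n) n := by
  rcases Nat.eq_zero_or_pos n with hn | hn
  · obtain ⟨e⟩ := nonempty_twist_trivial k hn t
    rw [CurvLib.euler_congr e, PnCohLib.euler_structure]
    subst hn
    simp
  rcases lt_or_ge t 0 with ht | ht
  · rcases lt_or_ge t (-(n : ℤ)) with h | h
    · rw [CurvLib.euler_eq_sum (d := n + 1) fun p hp => PnCohLib.subsingleton_HH_twist t p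
        (fun e => by omega) (fun e => by omega), Finset.sum_range_succ, Finset.sum_eq_zero (fun i hi => by
          haveI := PnCohLib.subsingleton_HH_twist (n := n) (R := k) t i (fun e => by omega)
            (fun e => by rw [e.1] at hi; simp at hi)
          rw [Module.finrank_zero_of_subsingleton]; simp),
        zero_add, PnCohLib.finrank_top_twist k hn]
      obtain ⟨m, hm⟩ : ∃ m : ℕ, t + n = -((m + 1 : ℕ) : ℤ) := ⟨(-(t + n) - 1).toNat, by omega⟩
      rw [hm, Ring.choose_neg, show ((m + 1 : ℕ) : ℤ) + (n : ℤ) - 1 = ((m + n : ℕ) : ℤ) by push_cast; ring,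
        Ring.choose_natCast, show (-t - 1).toNat = m + n by omega, Units.smul_def, smul_eq_mul]
      congr 1
    · rw [PnCohLib.euler_twist_zero k t h ht, show t + n = ((t + n).toNat : ℤ) by omega, Ring.choose_natCast,
        Nat.choose_eq_zero_of_lt (by omega)]
      simp
  · rw [CurvLib.euler_eq_finrank fun p hp => PnCohLib.subsingleton_HH_twist t p (fun e => by omega) (fun e => by omega),
      PnCohLib.finrank_zero_twist k hn, show (t + n).toNat = (t + n).toNat from rfl,
      show t + n = ((t + n).toNat : ℤ) by omega, Ring.choose_natCast, Int.toNat_natCast]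

theorem freeMod_data (p : ℕ) :
    Coh.IsCoh (FlatMod.freeMod (CohB1.ProjSpace n k) p) ∧
      Curv2.IsMRegular k n (FlatMod.freeMod (CohB1.ProjSpace n k) p) 0 ∧
        ∀ t, chi k (FlatMod.freeMod (CohB1.ProjSpace n k) p) t = sec p (n + 1) t := by
  haveI := isProper_projSpace (n := n) k
  haveI := CurvLib.isNoetherian k (X := CohB1.ProjSpace n k)
  obtain ⟨e₀⟩ := PicPnLib.twist_zero n k
  refine ⟨QCohLib.isCoh_of_iso (HilbPolyLib.congrLeft e₀ _ ≪≫ HilbPolyLib.unitLeft _)
    (PnCohLib.isCoh_tensor_free (PicPnLib.twist_inv n k 0) p), fun i hi _ => ?_, fun t => ?_⟩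
  · exact SerreVanLib.subsingleton_HH_of_iso (HilbPolyLib.swapIso _ _) i
      (PnCohLib.subsingleton_HH_tensor_free _ i
        (PnCohLib.subsingleton_HH_twist _ i (fun h => by omega) (fun h => by omega)) p)
  · rw [chi_eq_euler, CurvLib.euler_congr (HilbPolyLib.swapIso _ (O' t))]
    simp only [sec]
    have hcoh : ∀ b : ℕ, Coh.IsCoh (CohB1.tensorMod (O' t) (FlatMod.freeMod (CohB1.ProjSpace n k) b)) := fun b =>
      PnCohLib.isCoh_tensor_free (PicPnLib.twist_inv n k t) b
    induction p with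
    | zero =>
      show Curv2.euler k (CohB1.ProjSpace n k)
        ((CurvLib.tensorLeft' (O' t)).obj (FlatMod.freeMod (CohB1.ProjSpace n k) 0)) = _
      have hz : IsZero (FlatMod.freeMod (CohB1.ProjSpace n k) 0) :=
        (IsZero.iff_id_eq_zero _).2 (Sigma.hom_ext _ _ fun j => nomatch j)
      rw [Nat.cast_zero, zero_mul, CurvLib.euler_eq_sum (d := 0) fun i _ =>
        PnCohLib.subsingleton_HH_of_zero (Functor.map_isZero (CurvLib.tensorLeft' (O' t)) hz) i]
      simp
    | succ b ih =>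
      obtain ⟨f, g, w, hS⟩ := PnCohLib.exists_free_seq (O' t) (PicPnLib.twist_inv n k t) b
      rw [euler_add_gen k (PnCohLib.isCoh_twist k t) (hcoh (b + 1)) (hcoh b) hS, ih, euler_twist]
      push_cast
      ring

variable (K : Type u) [Field K] [Algebra k K]

theorem exists_fieldMap :
    ∃ g : CohB1.ProjSpace n K ⟶ CohB1.ProjSpace n k,
      IsPullback g (CohB1.ProjSpace.toSpec n K) (CohB1.ProjSpace.toSpec n k)
        (Spec.map (CommRingCat.ofHom (algebraMap k K))) ∧
      ∀ d : ℤ, Nonempty ((Scheme.Modules.pullback g).obj (O' d) ≅ Twist.twistProjSpace n K d) := by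
  obtain ⟨q, hq, hd⟩ := PicPnLib.exists_map n K
  obtain ⟨q', hq', hd'⟩ := PicPnLib.exists_map n k
  let g := hq'.lift q (CohB1.ProjSpace.toSpec n K ≫ Spec.map (CommRingCat.ofHom (algebraMap k K)))
    (by rw [hq.w, Category.assoc, specULiftZIsTerminal.hom_ext (Spec.map (CommRingCat.ofHom (algebraMap k K)) ≫
      specULiftZIsTerminal.from _) (specULiftZIsTerminal.from _)])
  refine ⟨g, IsPullback.of_right (h₁₂ := q') (v₁₃ := CohB1.ProjSpace.toSpec n (ULift.{u} ℤ))
    (h₂₂ := specULiftZIsTerminal.from _) ?_ (hq'.lift_snd _ _ _) hq', fun d => ?_⟩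
  · rw [hq'.lift_fst, specULiftZIsTerminal.hom_ext (Spec.map (CommRingCat.ofHom (algebraMap k K)) ≫
      specULiftZIsTerminal.from _) (specULiftZIsTerminal.from _)]
    exact hq
  · obtain ⟨a⟩ := hd d
    obtain ⟨b⟩ := hd' d
    exact ⟨(Scheme.Modules.pullback g).mapIso b.symm ≪≫
      (Scheme.Modules.pullbackComp g q').app _ ≪≫
      (Scheme.Modules.pullbackCongr (hq'.lift_fst _ _ _)).app _ ≪≫ a⟩

variable {K}

theorem finrank_field (g : CohB1.ProjSpace n K ⟶ CohB1.ProjSpace n k)
    (hg : IsPullback g (CohB1.ProjSpace.toSpec n K) (CohB1.ProjSpace.toSpec n k)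
      (Spec.map (CommRingCat.ofHom (algebraMap k K))))
    (hd : ∀ d : ℤ, Nonempty ((Scheme.Modules.pullback g).obj (O' d) ≅ Twist.twistProjSpace n K d))
    (F : (CohB1.ProjSpace n k).Modules) (hF : Coh.IsCoh F) (t : ℤ) (i : ℕ) :
    Module.finrank K (Coh.HH (CohB1.ProjSpace n K)
        (CohB1.tensorMod ((Scheme.Modules.pullback g).obj F) (Twist.twistProjSpace n K t)) i) =
      Module.finrank k (Coh.HH (CohB1.ProjSpace n k) (CohB1.tensorMod F (O' t)) i) := by
  haveI := isProper_projSpace (n := n) k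
  haveI := CurvLib.isNoetherian k (X := CohB1.ProjSpace n k)
  haveI := (isCoh_tw k hF t).1
  obtain ⟨ed⟩ := hd t
  have hθ := KFlatLib.isIso_pullθ g F (O' t)
  let e : (Scheme.Modules.pullback g).obj (CohB1.tensorMod F (O' t)) ≅
      CohB1.tensorMod ((Scheme.Modules.pullback g).obj F) (Twist.twistProjSpace n K t) :=
    @asIso _ _ _ _ (KFlatLib.pullθ g F (O' t)) hθ ≪≫ HilbPolyLib.congrRight _ ed
  obtain ⟨E⟩ := RpushLib.nonempty_affBase_bc (A := k) (B := K) hg (CohB1.tensorMod F (O' t)) i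
  rw [← (CurvLib.hIso (k := K) e i).finrank_eq]
  exact E.finrank_eq.symm.trans
    (Module.finrank_baseChange (R := K) (S := k) (M' := Coh.HH (CohB1.ProjSpace n k) (CohB1.tensorMod F (O' t)) i))

theorem regular_of_le (F : (CohB1.ProjSpace n k).Modules) (hF : Coh.IsCoh F) {m M : ℤ}
    (h : Curv2.IsMRegular k n F m) (hM : m ≤ M) (i : ℕ) (hi : 1 ≤ i) :
    Subsingleton (Coh.HH (CohB1.ProjSpace n k) (CohB1.tensorMod F (O' (M - i))) i) :=
  PnCohLib.vanishing_ge k F hF.1 m h i hi _ (by omega)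

/-- **Mumford's bound** -/
theorem subsingleton_of_bound (p : ℕ) (F : (CohB1.ProjSpace n k).Modules) (hF : Coh.IsCoh F)
    (u : F ⟶ FlatMod.freeMod (CohB1.ProjSpace n k) p) [Mono u] (f : ℤ → ℤ) (hf : ∀ t, chi k F t = f t)
    (M : ℤ) (hM : bound p (n + 1) f ≤ M) (i : ℕ) (hi : 1 ≤ i) :
    Subsingleton (Coh.HH (CohB1.ProjSpace n k) (CohB1.tensorMod F (O' (M - i))) i) := by
  haveI := isProper_projSpace (n := n) k
  let K := RatFunc k
  haveI : Infinite K := Infinite.of_injective (algebraMap (Polynomial k) K) (RatFunc.algebraMap_injective k)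
  obtain ⟨g, hg, hd⟩ := exists_fieldMap (n := n) k K
  haveI : Flat g := MorphismProperty.of_isPullback hg.flip
    (AlgebraicGeometry.Flat.SpecMap_iff.mpr (RingHom.flat_algebraMap_iff.2 (inferInstanceAs (Module.Flat k K))))
  haveI := CohGenLib.preservesFiniteLimits_pullback_flat g
  have hF' : Coh.IsCoh ((Scheme.Modules.pullback g).obj F) :=
    haveI := hF.1
    ⟨KFlatLib.isQCoh_pullback g F, ConsLib.isFT_pullback g F hF.2⟩
  let u' : (Scheme.Modules.pullback g).obj F ⟶ FlatMod.freeMod (CohB1.ProjSpace n K) p :=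
    (Scheme.Modules.pullback g).map u ≫ (KFlatLib.pullFreeIso g p).hom
  haveI : Mono u' := mono_comp _ _
  have hchi : chi K ((Scheme.Modules.pullback g).obj F) = f := funext fun t => by
    rw [← hf t]
    unfold chi FGA.eulerCharLE
    exact Finset.sum_congr rfl fun j _ => by rw [finrank_field k g hg hd F hF t j]
  obtain ⟨hW, hreg, hw⟩ := freeMod_data (n := n) K p
  have h := isMRegular_bound K p (n + 1) _ _ u' inferInstance hW hF' hreg hw
  rw [hchi] at h
  haveI := regular_of_le K _ hF' h hM i hi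
  haveI := PnCohLib.finite_twist k F hF (M - i) i
  rw [← Module.finrank_zero_iff (R := k), ← finrank_field k g hg hd F hF]
  exact Module.finrank_zero_of_subsingleton

end MumfordLib

end

noncomputable section

namespace MumfordLib

variable {n : ℕ} (k : Type u) [Field k]

theorem chi_shortExact {S : ShortComplex (CohB1.ProjSpace n k).Modules} (hS : S.ShortExact)
    (h₁ : Coh.IsCoh S.X₁) (h₂ : Coh.IsCoh S.X₂) (h₃ : Coh.IsCoh S.X₃) (t : ℤ) :
    chi k S.X₂ t = chi k S.X₁ t + chi k S.X₃ t := by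
  haveI := isProper_projSpace (n := n) k
  have hU := HilbPolyLib.shortExact_tensor (PicPnLib.twist_inv n k t) hS
  have hc : ∀ {M : (CohB1.ProjSpace n k).Modules}, Coh.IsCoh M →
      Coh.IsCoh ((CurvLib.tensorLeft' (Twist.twistProjSpace n k t)).obj M) := fun hM =>
    HilbPolyLib.isCoh_tensor (PicPnLib.twist_inv n k t) hM
  rw [chi_eq_euler, chi_eq_euler, chi_eq_euler,
    CurvLib.euler_congr (HilbPolyLib.swapIso S.X₁ (Twist.twistProjSpace n k t)),
    CurvLib.euler_congr (HilbPolyLib.swapIso S.X₂ (Twist.twistProjSpace n k t)),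
    CurvLib.euler_congr (HilbPolyLib.swapIso S.X₃ (Twist.twistProjSpace n k t))]
  exact euler_add_gen k (hc h₁) (hc h₂) (hc h₃) hU

/-- The bound for the kernel of a quotient of a free module. -/
theorem subsingleton_of_quot (p : ℕ) (F : (CohB1.ProjSpace n k).Modules) (hF : Coh.IsCoh F)
    (φ : FlatMod.freeMod (CohB1.ProjSpace n k) p ⟶ F) [Epi φ] (g : ℤ → ℤ) (hg : ∀ t, chi k F t = g t)
    (M : ℤ) (hM : bound p (n + 1) (fun t => sec p (n + 1) t - g t) ≤ M) (i : ℕ) (hi : 1 ≤ i) :
    Subsingleton (Coh.HH (CohB1.ProjSpace n k)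
      (CohB1.tensorMod (kernel φ) (Twist.twistProjSpace n k (M - i))) i) := by
  haveI := isProper_projSpace (n := n) k
  haveI := CurvLib.isNoetherian k (X := CohB1.ProjSpace n k)
  obtain ⟨hW, -, hw⟩ := freeMod_data (n := n) k p
  have hK : Coh.IsCoh (kernel φ) := QCohLib.isCoh_kernel φ hW hF.1
  refine subsingleton_of_bound k p (kernel φ) hK (kernel.ι φ) _ (fun t => ?_) M hM i hi
  have hS : (ShortComplex.mk (kernel.ι φ) φ (kernel.condition φ)).ShortExact :=
    ShortComplex.ShortExact.mk (ShortComplex.exact_kernel φ)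
  have := chi_shortExact k hS hK hW hF t
  linarith [hw t, hg t]

end MumfordLib

end
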