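import Groth.Agent.MumfordLib.Dom
import Groth.Agent.RegSecLib.Basic
import Groth.Agent.PnCohLib.HypSec
import Groth.Agent.PnCohLib.Split
import Groth.Agent.PnCohLib.Global
import Groth.Agent.PnCohLib.K0
import Groth.Agent.HilbPolyLib.IntNum
import Groth.Agent.GenusZeroLib.PSpace
import Groth.Agent.ProjDegLib.Chart
import Groth.Agent.MiscFlat6.CounitTwist
import Mathlib.CategoryTheory.Abelian.CommSq

/-!
# Mumford's induction bounding the regularity of a subsheaf
-/

set_option autoImplicit false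
set_option maxHeartbeats 1000000
universe u

open CategoryTheory CategoryTheory.Limits AlgebraicGeometry TopologicalSpace Opposite

noncomputable section

namespace MumfordLib

variable {n : ℕ} (k : Type u) [Field k]

local notation "P" => CohB1.ProjSpace n k
local notation "O'" => Twist.twistProjSpace n k
local notation "T" => CurvLib.tensorLeft'

theorem isProper_projSpace : IsProper (CohB1.ProjSpace n k ↘ Spec (CommRingCat.of k)) :=
  ProjDegLib.toSpec_isProper k n

theorem dim_le : topologicalKrullDim ↥(CohB1.ProjSpace n k) ≤ (n : ℕ) :=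
  (GenusZeroLib.dim_projSpace k n).le

/-- The Euler characteristics of the twists. -/
def chi (F : (CohB1.ProjSpace n k).Modules) (t : ℤ) : ℤ :=
  FGA.eulerCharLE k (CohB1.ProjSpace n k) (CohB1.tensorMod F (O' t)) n

theorem chi_eq_euler (F : (CohB1.ProjSpace n k).Modules) (t : ℤ) :
    chi k F t = Curv2.euler k (CohB1.ProjSpace n k) (CohB1.tensorMod F (O' t)) :=
  haveI := isProper_projSpace (n := n) k
  HilbPolyLib.eulerCharLE_eq (dim_le k) _

theorem isCoh_tw {F : (CohB1.ProjSpace n k).Modules} (hF : Coh.IsCoh F) (t : ℤ) :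
    Coh.IsCoh (CohB1.tensorMod F (O' t)) :=
  SerreVanLib.isCoh_tensor hF (PicPnLib.twist_inv n k t)

theorem euler_add_gen {X : Scheme.{u}} [X.Over (Spec (CommRingCat.of k))] [IsProper (X ↘ Spec (CommRingCat.of k))]
    {A B C : X.Modules} (hA : Coh.IsCoh A) (hB : Coh.IsCoh B) (hC : Coh.IsCoh C) {f : A ⟶ B} {g : B ⟶ C} {w : f ≫ g = 0}
    (hS : (ShortComplex.mk f g w).ShortExact) :
    Curv2.euler k X B = Curv2.euler k X A + Curv2.euler k X C :=
  @CurvLib.euler_add_of_isCoh k _ X _ (ShortComplex.mk f g w) hS _ hA hB hC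

/-- Additivity along a short exact sequence of twists. -/
theorem chi_add {A B C : (CohB1.ProjSpace n k).Modules} (hA : Coh.IsCoh A) (hB : Coh.IsCoh B) (hC : Coh.IsCoh C)
    {a b c : ℤ} {f : CohB1.tensorMod A (O' a) ⟶ CohB1.tensorMod B (O' b)}
    {g : CohB1.tensorMod B (O' b) ⟶ CohB1.tensorMod C (O' c)} {w : f ≫ g = 0}
    (hS : (ShortComplex.mk f g w).ShortExact) : chi k B b = chi k A a + chi k C c := by
  haveI := isProper_projSpace (n := n) k
  have h₁ := isCoh_tw k hA a
  have h₂ := isCoh_tw k hB b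
  have h₃ := isCoh_tw k hC c
  rw [chi_eq_euler k A, chi_eq_euler k B, chi_eq_euler k C]
  revert f g
  generalize CohB1.tensorMod A (O' a) = X₁ at h₁ ⊢
  generalize CohB1.tensorMod B (O' b) = X₂ at h₂ ⊢
  generalize CohB1.tensorMod C (O' c) = X₃ at h₃ ⊢
  intro f g w hS
  exact euler_add_gen k h₁ h₂ h₃ hS

theorem chi_congr {F G : (CohB1.ProjSpace n k).Modules} (e : F ≅ G) (t : ℤ) : chi k F t = chi k G t := by
  rw [chi_eq_euler, chi_eq_euler]
  exact CurvLib.euler_congr (HilbPolyLib.congrLeft e _)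

theorem chi_eq_two {F : (CohB1.ProjSpace n k).Modules} (t : ℤ)
    (h : ∀ i, 2 ≤ i → Subsingleton (Coh.HH P (CohB1.tensorMod F (O' t)) i)) :
    chi k F t = (Module.finrank k (Coh.HH P (CohB1.tensorMod F (O' t)) 0) : ℤ) -
      (Module.finrank k (Coh.HH P (CohB1.tensorMod F (O' t)) 1) : ℤ) := by
  rw [chi_eq_euler, CurvLib.euler_eq_sum (d := 2) h, Finset.sum_range_succ, Finset.sum_range_one]
  ring

theorem chi_eq_h0 {W : (CohB1.ProjSpace n k).Modules} (hW : Coh.IsQCoh W) (hreg : Curv2.IsMRegular k n W 0)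
    (t : ℤ) (ht : -1 ≤ t) :
    chi k W t = (Module.finrank k (Coh.HH P (CohB1.tensorMod W (O' t)) 0) : ℤ) := by
  have h := fun i (hi : 1 ≤ i) => PnCohLib.vanishing_ge k W hW 0 hreg i hi t (by omega)
  haveI := h 1 le_rfl
  rw [chi_eq_two k t fun i hi => h i (by omega), Module.finrank_zero_of_subsingleton (M := Coh.HH P (CohB1.tensorMod W (O' t)) 1)]
  simp

theorem subsingleton_X₃ {S : ShortComplex (CohB1.ProjSpace n k).Modules} (hS : S.ShortExact) {p : ℕ}
    (h₂ : Subsingleton (Coh.HH P S.X₂ p)) (h₁ : Subsingleton (Coh.HH P S.X₁ (p + 1))) :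
    Subsingleton (Coh.HH P S.X₃ p) :=
  subsingleton_of_forall_eq 0 fun x => by
    have hx : x ∈ LinearMap.ker (CurvLib.hDel (k := k) hS p) :=
      LinearMap.mem_ker.2 (h₁.elim _ _)
    rw [← CurvLib.exact₃ hS p] at hx
    obtain ⟨y, rfl⟩ := hx
    rw [h₂.elim y 0, map_zero]

theorem finrank_le₀ {S : ShortComplex (CohB1.ProjSpace n k).Modules} (hS : S.ShortExact)
    [Module.Finite k (Coh.HH P S.X₂ 0)] :
    Module.finrank k (Coh.HH P S.X₁ 0) ≤ Module.finrank k (Coh.HH P S.X₂ 0) :=
  LinearMap.finrank_le_finrank_of_injective (@CurvLib.injective₀ k _ P _ S hS)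

theorem h0_le {F W : (CohB1.ProjSpace n k).Modules} (u : F ⟶ W) [Mono u] (hW : Coh.IsCoh W) (t : ℤ) :
    Module.finrank k (Coh.HH P (CohB1.tensorMod F (O' t)) 0) ≤
      Module.finrank k (Coh.HH P (CohB1.tensorMod W (O' t)) 0) := by
  have hS : (ShortComplex.mk u (cokernel.π u) (cokernel.condition u)).ShortExact :=
    ShortComplex.ShortExact.mk (ShortComplex.exact_cokernel u)
  haveI : Mono ((T (O' t)).map u) :=
    (HilbPolyLib.shortExact_tensor (PicPnLib.twist_inv n k t) hS).mono_f
  let v : CohB1.tensorMod F (O' t) ⟶ CohB1.tensorMod W (O' t) :=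
    (HilbPolyLib.swapIso F (O' t)).hom ≫ (T (O' t)).map u ≫ (HilbPolyLib.swapIso (O' t) W).hom
  haveI hTu : Mono ((T (O' t)).map u) := ‹_›
  haveI : Mono v := @mono_comp _ _ _ _ _ _ inferInstance _
    (@mono_comp _ _ _ _ _ _ hTu _ inferInstance)
  haveI : Module.Finite k (Coh.HH P (ShortComplex.mk v (cokernel.π v) (cokernel.condition v)).X₂ 0) :=
    PnCohLib.finite_twist k W hW t 0
  exact finrank_le₀ k (S := ShortComplex.mk v (cokernel.π v) (cokernel.condition v))
    (ShortComplex.ShortExact.mk (ShortComplex.exact_cokernel v))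

theorem isZero_of_h0 (W : (CohB1.ProjSpace n k).Modules) (hW : Coh.IsCoh W) (hreg : Curv2.IsMRegular k n W 0)
    (h : chi k W 0 = 0) : IsZero W := by
  haveI := isProper_projSpace (n := n) k
  have h0 : Subsingleton (Coh.HH P (CohB1.tensorMod W (O' 0)) 0) := by
    haveI := PnCohLib.finite_twist k W hW 0 0
    rw [← Module.finrank_zero_iff (R := k)]
    rw [chi_eq_h0 k hW.1 hreg 0 (by omega)] at h
    exact_mod_cast h
  refine PnCohLib.isZero_of_tensor k 0 W ((IsZero.iff_id_eq_zero _).2 ?_)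
  refine MiscFlat6.cancel_of_isGloballyGenerated (PnCohLib.isGloballyGenerated_of_regular k W hW.1 0 hreg) _ fun u => ?_
  haveI := (DegPullLib.e0 (CohB1.tensorMod W (O' 0))).symm.injective.subsingleton
  exact Subsingleton.elim _ _

/-- Dividing by a general linear form. -/
theorem exists_cut [Infinite k] (M : Fin 2 → (CohB1.ProjSpace n k).Modules) (hM : ∀ j, Coh.IsCoh (M j)) :
    ∃ η : T (O' (-1)) ⟶ 𝟭 (CohB1.ProjSpace n k).Modules, ∀ j, Mono (η.app (M j)) := by
  haveI := isProper_projSpace (n := n) k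
  haveI := CurvLib.isNoetherian k (X := CohB1.ProjSpace n k)
  let s : Fin (n + 1) → Γ(O' 1, (⊤ : (CohB1.ProjSpace n k).Opens)) := fun i => ProjUP.coord n k i
  have hgen : ∀ x : P, ∃ i, AmpleLib.GenAt (O' 1) (s i) (show x ∈ (⊤ : (CohB1.ProjSpace n k).Opens) from trivial) := by
    intro x
    obtain ⟨a, ha⟩ := ProjDegLib.exists_chart n k x
    exact ⟨a, (AmpleLib.genAt_res le_top _ ha).1 (ProjDegLib.genAt_coord n k ha)⟩
  have hk : Infinite (IsLocalRing.ResidueField k) :=
    Infinite.of_injective _ (IsLocalRing.residue k).injective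
  obtain ⟨a, ha⟩ := RegSecLib.exists_regular_comb hk (CohB1.ProjSpace.toSpec n k) (O' 1)
    (PicPnLib.twist_inv n k 1) s hgen (fun j => CohB1.tensorMod (O' (-1)) (M j))
    fun j => HilbPolyLib.isCoh_tensor (PicPnLib.twist_inv n k _) (hM j)
  let τ : Coh.structureModule P ⟶ O' 1 := QCohLib.unitHom (O' 1)
    (∑ i, (CohB1.ProjSpace.toSpec n k).appTop ((Scheme.ΓSpecIso (CommRingCat.of k)).inv (a i)) • s i)
  obtain ⟨e₁⟩ := PnCohLib.exists_twistNat (n := n) k 1 (-1) 0 (by ring)
  obtain ⟨e₀⟩ := PnCohLib.exists_unitNat (n := n) k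
  let β : T (O' (-1)) ⋙ T (O' 1) ≅ 𝟭 _ := e₁ ≪≫ e₀
  let α : 𝟭 (CohB1.ProjSpace n k).Modules ⟶ T (O' 1) :=
    PerfCompLib.tensUnitNat.inv ≫ (DCoh.tensorBi (X := P)).map τ
  refine ⟨(Functor.rightUnitor _).inv ≫ Functor.whiskerLeft (T (O' (-1))) α ≫ β.hom, fun j => ?_⟩
  haveI := (ha j).2
  have e : ((Functor.rightUnitor (T (O' (-1)))).inv ≫ Functor.whiskerLeft (T (O' (-1))) α ≫ β.hom).app (M j) =
      PerfCompLib.tensUnitNat.inv.app ((T (O' (-1))).obj (M j)) ≫
        ((DCoh.tensorBi (X := P)).map τ).app ((T (O' (-1))).obj (M j)) ≫ β.hom.app (M j) := by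
    simp only [NatTrans.comp_app, Functor.rightUnitor_inv_app, Category.id_comp, Functor.whiskerLeft_app, α,
      Category.assoc]
  rw [e]
  haveI : Mono (((DCoh.tensorBi (X := P)).map τ).app ((T (O' (-1))).obj (M j))) := (ha j).2
  infer_instance

/-- Cutting a monomorphism with regular quotient. -/
theorem mono_cokernelMap {C D : Type*} [Category C] [Category D] [Abelian C] [Abelian D]
    {F G : C ⥤ D} [F.PreservesZeroMorphisms] [G.PreservesZeroMorphisms] (η : F ⟶ G)
    {A B Q : C} {u : A ⟶ B} {q : B ⟶ Q} {w : u ≫ q = 0}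
    (hF : ((ShortComplex.mk u q w).map F).ShortExact) (hG : ((ShortComplex.mk u q w).map G).ShortExact)
    [Mono (η.app Q)] :
    Mono (cokernel.map (η.app A) (η.app B) (F.map u) (G.map u) (η.naturality u).symm) := by
  refine Abelian.mono_cokernel_map_of_isPullback ?_
  haveI : Mono (F.map u) := hF.mono_f
  haveI : Mono (G.map u) := hG.mono_f
  haveI : Mono ((ShortComplex.mk u q w).map F).f := hF.mono_f
  refine IsPullback.of_isLimit' ⟨(η.naturality u).symm⟩ (PullbackCone.IsLimit.mk _
    (fun s => hF.exact.lift s.snd ?_) (fun s => ?_) (fun s => hF.exact.lift_f _ _) fun s m h₁ h₂ => ?_)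
  · show s.snd ≫ F.map q = 0
    rw [← cancel_mono (η.app Q), Category.assoc, η.naturality q, ← Category.assoc, ← s.condition,
      Category.assoc, ← G.map_comp, w, G.map_zero, comp_zero, zero_comp]
  · rw [← cancel_mono (G.map u), Category.assoc, ← η.naturality u, ← Category.assoc]
    have h := hF.exact.lift_f s.snd (by
      show s.snd ≫ F.map q = 0
      rw [← cancel_mono (η.app Q), Category.assoc, η.naturality q, ← Category.assoc, ← s.condition,
        Category.assoc, ← G.map_comp, w, G.map_zero, comp_zero, zero_comp])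
    exact (congrArg (· ≫ η.app B) h).trans s.condition.symm
  · rw [← cancel_mono (F.map u), h₂]
    exact (hF.exact.lift_f s.snd _).symm

theorem isMRegular_bound_zero [Infinite k] (p : ℕ) (W F : (CohB1.ProjSpace n k).Modules) (u : F ⟶ W) [Mono u]
    (hW : Coh.IsCoh W) (hreg : Curv2.IsMRegular k n W 0) (hchi : chi k W 0 = 0) :
    Curv2.IsMRegular k n F 0 := by
  have hz : IsZero F := IsZero.of_mono u (isZero_of_h0 k W hW hreg hchi)
  intro i _ _
  exact PnCohLib.subsingleton_HH_of_zero (Functor.map_isZero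
    ((DCoh.tensorBi (X := P)).flip.obj (O' (0 - (i : ℤ)))) hz) i

theorem isMRegular_bound [Infinite k] (p e : ℕ) : ∀ (W F : (CohB1.ProjSpace n k).Modules) (u : F ⟶ W),
    Mono u → Coh.IsCoh W → Coh.IsCoh F → Curv2.IsMRegular k n W 0 → (∀ t, chi k W t = sec p e t) →
      Curv2.IsMRegular k n F (bound p e (chi k F)) := by
  induction e with
  | zero =>
    intro W F u _ hW _ hreg hchi
    exact isMRegular_bound_zero k p W F u hW hreg (hchi 0)
  | succ e ih =>
    intro W F u _ hW hF hreg hchi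
    haveI := isProper_projSpace (n := n) k
    haveI := hW.1
    haveI := hF.1
    haveI : Coh.IsQCoh (cokernel u) := QCohLib.isQCoh_cokernel u
    let Q := cokernel u
    have hQ : Coh.IsCoh Q := QCohLib.isCoh_cokernel u hF.1 hW
    obtain ⟨η, hη⟩ := exists_cut (n := n) k ![W, Q] (Fin.forall_fin_two.2 ⟨hW, hQ⟩)
    have hηW : Mono (η.app W) := hη 0
    haveI := hηW
    haveI : Mono (η.app Q) := hη 1
    have hS : (ShortComplex.mk u (cokernel.π u) (cokernel.condition u)).ShortExact :=
      ShortComplex.ShortExact.mk (ShortComplex.exact_cokernel u)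
    have hT : ∀ t, ((ShortComplex.mk u (cokernel.π u) (cokernel.condition u)).map (T (O' t))).ShortExact := fun t =>
      HilbPolyLib.shortExact_tensor (PicPnLib.twist_inv n k t) hS
    haveI : Mono ((T (O' (-1))).map u) := (hT (-1)).mono_f
    have hηF : Mono (η.app F) := by
      haveI : Mono (η.app F ≫ u) := by
        rw [show η.app F ≫ u = (T (O' (-1))).map u ≫ η.app W from (η.naturality u).symm]
        infer_instance
      exact mono_of_mono _ u
    haveI := hηF
    let ιF : CohB1.tensorMod F (O' (-1)) ⟶ F := (HilbPolyLib.swapIso F (O' (-1))).hom ≫ η.app F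
    let ιW : CohB1.tensorMod W (O' (-1)) ⟶ W := (HilbPolyLib.swapIso W (O' (-1))).hom ≫ η.app W
    have hmap : Mono (cokernel.map (η.app F) (η.app W) ((T (O' (-1))).map u) u (η.naturality u).symm) :=
      mono_cokernelMap η (u := u) (q := cokernel.π u) (w := cokernel.condition u) (hT (-1)) hS
    let u' : cokernel ιF ⟶ cokernel ιW := (cokernelEpiComp (f := (HilbPolyLib.swapIso F (O' (-1))).hom) (g := η.app F)).hom ≫
      cokernel.map (η.app F) (η.app W) ((T (O' (-1))).map u) u (η.naturality u).symm ≫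
      (cokernelEpiComp (f := (HilbPolyLib.swapIso W (O' (-1))).hom) (g := η.app W)).inv
    haveI : Mono ιF := @mono_comp _ _ _ _ _ _ inferInstance _ hηF
    haveI : Mono ιW := @mono_comp _ _ _ _ _ _ inferInstance _ hηW
    have hu' : Mono u' := @mono_comp _ _ _ _ _ _ inferInstance _
      (@mono_comp _ _ _ _ _ _ hmap _ inferInstance)
    have hCF : Coh.IsCoh (cokernel ιF) := PnCohLib.isCoh_cok k F ιF hF
    have hCW : Coh.IsCoh (cokernel ιW) := PnCohLib.isCoh_cok k W ιW hW
    have hdiff : ∀ (A : (CohB1.ProjSpace n k).Modules) (ι : CohB1.tensorMod A (O' (-1)) ⟶ A) [Mono ι],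
        Coh.IsCoh A → ∀ t, chi k (cokernel ι) t = chi k A t - chi k A (t - 1) := fun A ι _ hA t => by
      obtain ⟨f, g, w, hfg⟩ := PnCohLib.exists_seq k A ι t
      rw [chi_add k hA hA (PnCohLib.isCoh_cok k A ι hA) hfg]
      ring
    have hreg' : Curv2.IsMRegular k n (cokernel ιW) 0 := fun i hi _ => by
      obtain ⟨f, g, w, hfg⟩ := PnCohLib.exists_seq k W ιW (0 - (i : ℤ))
      exact subsingleton_X₃ k hfg (PnCohLib.vanishing_ge k W hW.1 0 hreg i hi _ le_rfl)
        (PnCohLib.vanishing_ge k W hW.1 0 hreg (i + 1) (by omega) _ (by push_cast; omega))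
    have IH := ih (cokernel ιW) (cokernel ιF) u' hu' hCW hCF hreg' fun t => by
      rw [hdiff W ιW hW, hchi, hchi]
      exact (sec_diff p e t).symm
    rw [funext (hdiff F ιF hF)] at IH
    show Curv2.IsMRegular k n F (bound p e (fun t => chi k F t - chi k F (t - 1)) +
      max 0 (sec p (e + 1) (bound p e (fun t => chi k F t - chi k F (t - 1)) - 1) -
        chi k F (bound p e (fun t => chi k F t - chi k F (t - 1)) - 1)))
    have hm := bound_nonneg p e fun t => chi k F t - chi k F (t - 1)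
    generalize bound p e (fun t => chi k F t - chi k F (t - 1)) = m at IH hm ⊢
    have h2 := PnCohLib.vanishing_two k F ιF hF m IH
    have hle : (Module.finrank k (Coh.HH P (CohB1.tensorMod F (O' (m - 1))) 0) : ℤ) ≤ sec p (e + 1) (m - 1) := by
      rw [← hchi, chi_eq_h0 k hW.1 hreg (m - 1) (by omega)]
      exact Int.ofNat_le.2 (h0_le k u hW (m - 1))
    have hc := chi_eq_two k (F := F) (m - 1) fun i hi => h2 i hi (m - 1) (by omega)
    intro i hi hin
    rcases Nat.lt_or_ge i 2 with h | h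
    · obtain rfl : i = 1 := by omega
      have hb := PnCohLib.h1_bound k F ιF hF m IH (max 0 (sec p (e + 1) (m - 1) - chi k F (m - 1))).toNat
      rw [Int.toNat_of_nonneg (le_max_left _ _),
        show m - 1 + max 0 (sec p (e + 1) (m - 1) - chi k F (m - 1)) =
          m + max 0 (sec p (e + 1) (m - 1) - chi k F (m - 1)) - ((1 : ℕ) : ℤ) by push_cast; ring] at hb
      haveI := PnCohLib.finite_twist k F hF
        (m + max 0 (sec p (e + 1) (m - 1) - chi k F (m - 1)) - ((1 : ℕ) : ℤ)) 1
      rw [← Module.finrank_zero_iff (R := k)]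
      unfold PnCohLib.h1 at hb
      omega
    · exact h2 i h _ (by omega)

end MumfordLib

end
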