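import Mathlib

/-!
# Polynomial domination for the recursion bounding the regularity
-/

set_option autoImplicit false

noncomputable section

namespace MumfordLib

variable {r : ℕ}

/-- `1` plus the size of a tuple. -/
def wt (a : Fin r → ℤ) : ℤ := 1 + ∑ j, |a j|

theorem one_le_wt (a : Fin r → ℤ) : 1 ≤ wt a :=
  le_add_of_nonneg_right (Finset.sum_nonneg fun j _ => abs_nonneg _)

theorem abs_choose_le (t : ℤ) (j : ℕ) : |Ring.choose t j| ≤ (|t| + j) ^ j := by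
  obtain ⟨m, rfl | rfl⟩ := t.eq_nat_or_neg
  · rw [Ring.choose_natCast, Nat.abs_cast, Nat.abs_cast]
    exact_mod_cast (Nat.choose_le_pow m j).trans (Nat.pow_le_pow_left (Nat.le_add_right m j) j)
  · rw [abs_neg, Nat.abs_cast, Ring.choose_neg]
    rcases m with _ | m
    · rcases j with _ | j
      · simp
      · have h : Ring.choose ((0 : ℤ) + ((j + 1 : ℕ) : ℤ) - 1) (j + 1) = 0 := by
          rw [show (0 : ℤ) + ((j + 1 : ℕ) : ℤ) - 1 = ((j : ℕ) : ℤ) by push_cast; ring, Ring.choose_natCast]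
          simp
        rw [Nat.cast_zero, h, smul_zero, abs_zero]
        positivity
    · rw [show ((m + 1 : ℕ) : ℤ) + (j : ℤ) - 1 = ((m + j : ℕ) : ℤ) by push_cast; ring, Ring.choose_natCast,
        Units.smul_def, smul_eq_mul, abs_mul, Nat.abs_cast]
      have h1 : |((Int.negOnePow (j : ℤ) : ℤˣ) : ℤ)| = 1 := by
        rcases Int.units_eq_one_or (Int.negOnePow (j : ℤ)) with h | h <;> simp [h]
      rw [h1, one_mul]
      exact_mod_cast (Nat.choose_le_pow (m + j) j).trans (Nat.pow_le_pow_left (by omega) j)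

/-- Families of integer functions of polynomial growth. -/
def Bd (h : (Fin r → ℤ) → ℤ → ℤ) : Prop := ∃ c D : ℕ, ∀ a t, |h a t| ≤ c * (wt a + |t|) ^ D

/-- Integer functions of polynomial growth. -/
def Dom (m : (Fin r → ℤ) → ℤ) : Prop := ∃ c D : ℕ, ∀ a, |m a| ≤ c * wt a ^ D

theorem pow_mono_wt {x : ℤ} (hx : 1 ≤ x) {D D' : ℕ} (h : D ≤ D') (c : ℕ) : (c : ℤ) * x ^ D ≤ c * x ^ D' :=
  mul_le_mul_of_nonneg_left (pow_le_pow_right₀ hx h) (Int.natCast_nonneg c)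

theorem one_le_arg (a : Fin r → ℤ) (t : ℤ) : 1 ≤ wt a + |t| :=
  (one_le_wt a).trans (le_add_of_nonneg_right (abs_nonneg t))

theorem Bd.add {h₁ h₂ : (Fin r → ℤ) → ℤ → ℤ} (b₁ : Bd h₁) (b₂ : Bd h₂) : Bd fun a t => h₁ a t + h₂ a t := by
  obtain ⟨c₁, D₁, b₁⟩ := b₁
  obtain ⟨c₂, D₂, b₂⟩ := b₂
  refine ⟨c₁ + c₂, D₁ + D₂, fun a t => (abs_add_le _ _).trans ?_⟩
  rw [Nat.cast_add, add_mul]
  exact add_le_add ((b₁ a t).trans (pow_mono_wt (one_le_arg a t) (Nat.le_add_right _ _) _))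
    ((b₂ a t).trans (pow_mono_wt (one_le_arg a t) (Nat.le_add_left _ _) _))

theorem Bd.neg {h : (Fin r → ℤ) → ℤ → ℤ} (b : Bd h) : Bd fun a t => -h a t := by
  simpa only [Bd, abs_neg] using b

theorem Bd.shift {h : (Fin r → ℤ) → ℤ → ℤ} (b : Bd h) : Bd fun a t => h a (t - 1) := by
  obtain ⟨c, D, b⟩ := b
  refine ⟨c * 2 ^ D, D, fun a t => (b a (t - 1)).trans ?_⟩
  have h1 : wt a + |t - 1| ≤ 2 * (wt a + |t|) := by
    have := abs_sub t 1
    have := one_le_arg a t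
    simp only [abs_one] at *
    linarith
  calc (c : ℤ) * (wt a + |t - 1|) ^ D ≤ c * (2 * (wt a + |t|)) ^ D :=
        mul_le_mul_of_nonneg_left (pow_le_pow_left₀ (by linarith [one_le_arg a (t - 1)]) h1 D) (Int.natCast_nonneg c)
    _ = ((c * 2 ^ D : ℕ) : ℤ) * (wt a + |t|) ^ D := by rw [mul_pow]; push_cast; ring

theorem Bd.diff {h : (Fin r → ℤ) → ℤ → ℤ} (b : Bd h) : Bd fun a t => h a t - h a (t - 1) := by
  simpa only [sub_eq_add_neg] using b.add b.shift.neg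

theorem bd_choose (c : ℤ) (s : ℕ) (e : ℕ) : Bd fun (_ : Fin r → ℤ) t => c * Ring.choose (t + s) e := by
  refine ⟨c.natAbs * (s + e + 1) ^ e, e, fun a t => ?_⟩
  rw [abs_mul, Int.abs_eq_natAbs, Nat.cast_mul, mul_assoc]
  refine mul_le_mul_of_nonneg_left ((abs_choose_le _ e).trans ?_) (Int.natCast_nonneg _)
  rw [Nat.cast_pow, ← mul_pow]
  refine pow_le_pow_left₀ (by positivity) ?_ e
  have h1 := one_le_arg a t
  have h2 : |t + (s : ℤ)| ≤ |t| + s := (abs_add_le _ _).trans (by simp)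
  have h3 : ((s : ℤ) + e + 1) * (wt a + |t|) ≥ (wt a + |t|) + (s + e) := by nlinarith
  push_cast
  linarith [one_le_wt a]

theorem bd_coeff : Bd fun (a : Fin r → ℤ) t => ∑ j, a j * Ring.choose t (j : ℕ) := by
  refine ⟨(r + 1) ^ r, r + 1, fun a t => (Finset.abs_sum_le_sum_abs _ _).trans ?_⟩
  set x : ℤ := wt a + |t| with hx
  have hx1 : 1 ≤ x := one_le_arg a t
  have hj : ∀ j : Fin r, |a j * Ring.choose t (j : ℕ)| ≤ |a j| * (((r : ℤ) + 1) ^ r * x ^ r) := fun j => by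
    rw [abs_mul]
    refine mul_le_mul_of_nonneg_left ((abs_choose_le t j).trans ?_) (abs_nonneg _)
    have h1 : |t| + (j : ℤ) ≤ ((r : ℤ) + 1) * x := by
      have : (j : ℤ) ≤ r := by exact_mod_cast j.2.le
      have := one_le_wt a
      nlinarith [abs_nonneg t]
    calc (|t| + (j : ℤ)) ^ (j : ℕ) ≤ (((r : ℤ) + 1) * x) ^ (j : ℕ) := pow_le_pow_left₀ (by positivity) h1 _
      _ ≤ (((r : ℤ) + 1) * x) ^ r := pow_le_pow_right₀ (by nlinarith) j.2.le
      _ = _ := mul_pow _ _ _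
  refine (Finset.sum_le_sum fun j _ => hj j).trans ?_
  rw [← Finset.sum_mul, Nat.cast_pow, Nat.cast_add, Nat.cast_one, pow_succ' x r]
  have hs : ∑ j, |a j| ≤ x := by
    have := abs_nonneg t
    simp only [hx, wt]
    linarith
  calc (∑ j, |a j|) * (((r : ℤ) + 1) ^ r * x ^ r) ≤ x * (((r : ℤ) + 1) ^ r * x ^ r) :=
        mul_le_mul_of_nonneg_right hs (by positivity)
    _ = ((r : ℤ) + 1) ^ r * (x * x ^ r) := by ring

theorem Bd.comp {h : (Fin r → ℤ) → ℤ → ℤ} (b : Bd h) {m : (Fin r → ℤ) → ℤ} (d : Dom m) :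
    Dom fun a => h a (m a - 1) := by
  obtain ⟨c, D, b⟩ := b
  obtain ⟨c', D', d⟩ := d
  refine ⟨c * (c' + 2) ^ D, (D' + 1) * D, fun a => (b a _).trans ?_⟩
  have hw := one_le_wt a
  have h1 : wt a + |m a - 1| ≤ ((c' : ℤ) + 2) * wt a ^ (D' + 1) := by
    have h2 := abs_sub (m a) 1
    have h3 : wt a ≤ wt a ^ (D' + 1) := le_self_pow₀ hw (Nat.succ_ne_zero _)
    have h4 : (c' : ℤ) * wt a ^ D' ≤ c' * wt a ^ (D' + 1) := pow_mono_wt hw (Nat.le_succ _) _
    have h5 := d a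
    simp only [abs_one] at h2
    nlinarith
  calc (c : ℤ) * (wt a + |m a - 1|) ^ D ≤ c * (((c' : ℤ) + 2) * wt a ^ (D' + 1)) ^ D :=
        mul_le_mul_of_nonneg_left (pow_le_pow_left₀ (by linarith [abs_nonneg (m a - 1)]) h1 D) (Int.natCast_nonneg c)
    _ = _ := by rw [mul_pow, ← pow_mul]; push_cast; ring

theorem Dom.add {m₁ m₂ : (Fin r → ℤ) → ℤ} (d₁ : Dom m₁) (d₂ : Dom m₂) : Dom fun a => m₁ a + m₂ a := by
  obtain ⟨c₁, D₁, d₁⟩ := d₁
  obtain ⟨c₂, D₂, d₂⟩ := d₂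
  refine ⟨c₁ + c₂, D₁ + D₂, fun a => (abs_add_le _ _).trans ?_⟩
  rw [Nat.cast_add, add_mul]
  exact add_le_add ((d₁ a).trans (pow_mono_wt (one_le_wt a) (Nat.le_add_right _ _) _))
    ((d₂ a).trans (pow_mono_wt (one_le_wt a) (Nat.le_add_left _ _) _))

theorem Dom.of_abs_le {m m' : (Fin r → ℤ) → ℤ} (d : Dom m) (h : ∀ a, |m' a| ≤ |m a|) : Dom m' := by
  obtain ⟨c, D, d⟩ := d
  exact ⟨c, D, fun a => (h a).trans (d a)⟩

theorem Dom.exists_mvPolynomial {m : (Fin r → ℤ) → ℤ} (d : Dom m) :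
    ∃ Q : MvPolynomial (Fin r) ℤ, ∀ a, m a ≤ MvPolynomial.eval a Q := by
  obtain ⟨c, D, d⟩ := d
  refine ⟨MvPolynomial.C (c : ℤ) *
    (MvPolynomial.C ((r : ℤ) + 1) + ∑ j, MvPolynomial.X j * MvPolynomial.X j) ^ D, fun a => ?_⟩
  simp only [map_mul, map_pow, map_add, MvPolynomial.eval_C, map_sum, MvPolynomial.eval_X]
  refine (le_abs_self _).trans ((d a).trans (mul_le_mul_of_nonneg_left
    (pow_le_pow_left₀ (by linarith [one_le_wt a]) ?_ D) (Int.natCast_nonneg c)))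
  have : ∑ j, |a j| ≤ ∑ j : Fin r, (1 + a j * a j) := Finset.sum_le_sum fun j _ => by
    nlinarith [sq_abs (a j), sq_nonneg (|a j| - 1), abs_nonneg (a j)]
  rw [Finset.sum_add_distrib, Finset.sum_const, Finset.card_univ, Fintype.card_fin, nsmul_one] at this
  simp only [wt]
  linarith

/-- The sections of the twists of the ambient sheaf. -/
def sec (p : ℕ) : ℕ → ℤ → ℤ
  | 0, _ => 0
  | e + 1, t => p * Ring.choose (t + e) e

theorem sec_diff (p e : ℕ) (t : ℤ) : sec p e t = sec p (e + 1) t - sec p (e + 1) (t - 1) := by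
  cases e with
  | zero => simp [sec]
  | succ e =>
    simp only [sec, Nat.cast_add, Nat.cast_one]
    rw [show t + ((e : ℤ) + 1) = t + (e : ℤ) + 1 by ring, Ring.choose_succ_succ,
      show t - 1 + ((e : ℤ) + 1) = t + (e : ℤ) by ring]
    ring

theorem bd_sec (p e : ℕ) : Bd fun (_ : Fin r → ℤ) t => sec p e t := by
  cases e with
  | zero => exact ⟨0, 0, fun a t => by simp [sec]⟩
  | succ e => exact bd_choose (p : ℤ) e e

/-- The bound. -/
def bound (p : ℕ) : ℕ → (ℤ → ℤ) → ℤ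
  | 0, _ => 0
  | e + 1, f =>
    let m := bound p e fun t => f t - f (t - 1)
    m + max 0 (sec p (e + 1) (m - 1) - f (m - 1))

theorem bound_nonneg (p : ℕ) : ∀ (e : ℕ) (f : ℤ → ℤ), 0 ≤ bound p e f
  | 0, _ => le_rfl
  | e + 1, _ => add_nonneg (bound_nonneg p e _) (le_max_left _ _)

theorem dom_bound (p : ℕ) : ∀ (e : ℕ) {h : (Fin r → ℤ) → ℤ → ℤ}, Bd h → Dom fun a => bound p e (h a)
  | 0, _, _ => ⟨0, 0, fun a => by simp [bound]⟩
  | e + 1, h, b => by
    have hm := dom_bound p e b.diff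
    refine Dom.add hm ((((bd_sec p (e + 1)).add b.neg).comp hm).of_abs_le fun a => ?_)
    rw [sub_eq_add_neg]
    exact abs_max_le_max_abs_abs.trans (max_le (by simp) le_rfl)

theorem exists_mvPolynomial_bound (p e : ℕ) :
    ∃ Q : MvPolynomial (Fin r) ℤ, ∀ a : Fin r → ℤ,
      bound p e (fun t => ∑ j, a j * Ring.choose t (j : ℕ)) ≤ MvPolynomial.eval a Q :=
  (dom_bound p e bd_coeff).exists_mvPolynomial

end MumfordLib

end
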